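import Groth.Agent.LinType.Basic
import Groth.Agent.CAlgGlobalDim.RegSeq
import Mathlib

/-! A discrete valuation ring dominating a regular local ring, obtained from the affine chart of the
blow-up of the closed point. -/

set_option autoImplicit false
noncomputable section

namespace Groth.Agent.DomDVR

open MvPolynomial IsLocalRing

universe u

variable {A : Type u} [CommRing A] [IsLocalRing A] [IsDomain A] {n : ℕ} (a : Fin (n + 1) → A)

/-- The parameters of the affine chart. -/
def chart : MvPolynomial (Fin n) A →ₐ[A] FractionRing A :=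
  aeval fun i => algebraMap A (FractionRing A) (a i.succ) / algebraMap A (FractionRing A) (a 0)

theorem ker_chart (h0 : a 0 ≠ 0) (ha : RingTheory.Sequence.IsWeaklyRegular A (List.ofFn a)) :
    RingHom.ker (chart a) = Ideal.span (Set.range fun i : Fin n =>
      MvPolynomial.C (a 0) * MvPolynomial.X i - MvPolynomial.C (a i.succ)) := by
  have hle : Submonoid.powers (a 0) ≤ nonZeroDivisors A :=
    Submonoid.powers_le.mpr (mem_nonZeroDivisors_of_ne_zero h0)
  have hu : IsUnit (algebraMap A (FractionRing A) (a 0)) :=
    ((map_ne_zero_iff _ (IsFractionRing.injective A (FractionRing A))).mpr h0).isUnit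
  let ι : Localization.Away (a 0) →+* FractionRing A :=
    IsLocalization.Away.lift (a 0) (g := algebraMap A (FractionRing A)) hu
  let ι' : Localization.Away (a 0) →ₐ[A] FractionRing A :=
    { ι with commutes' := fun r => IsLocalization.Away.lift_eq (a 0) hu r }
  have hι : Function.Injective ι' := by
    intro x y h
    obtain ⟨p, s, rfl⟩ := IsLocalization.exists_mk'_eq (Submonoid.powers (a 0)) x
    obtain ⟨q, t, rfl⟩ := IsLocalization.exists_mk'_eq (Submonoid.powers (a 0)) y
    have e : ∀ (p : A) (s : Submonoid.powers (a 0)),
        ι' (IsLocalization.mk' _ p s) * algebraMap A (FractionRing A) s = algebraMap A (FractionRing A) p := by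
      intro p s
      rw [← AlgHom.commutes ι', ← map_mul, IsLocalization.mk'_spec, AlgHom.commutes]
    refine IsLocalization.mk'_eq_iff_eq.mpr (congrArg _ ?_)
    refine IsFractionRing.injective A (FractionRing A) ?_
    rw [map_mul, map_mul, ← e p s, ← e q t, h]
    ring
  have hcomp : ι'.comp (MvPolynomial.aeval (R := A) (S₁ := Localization.Away (a 0))
      (fun i : Fin n => IsLocalization.mk' (Localization.Away (a 0)) (a i.succ)
        (⟨a 0, Submonoid.mem_powers (a 0)⟩ : Submonoid.powers (a 0)))) = chart a := by
    refine MvPolynomial.algHom_ext fun i => ?_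
    rw [AlgHom.comp_apply, aeval_X, chart, aeval_X, eq_div_iff hu.ne_zero, ← AlgHom.commutes ι',
      ← map_mul, IsLocalization.mk'_spec, AlgHom.commutes]
  rw [← LinType.ker_toAffineBlowup a ha, ← hcomp]
  ext f
  simp only [RingHom.mem_ker, AlgHom.comp_apply]
  exact map_eq_zero_iff ι' hι

theorem main (h0 : a 0 ≠ 0) (ha : RingTheory.Sequence.IsWeaklyRegular A (List.ofFn a))
    (hm : Ideal.span (Set.range a) = maximalIdeal A) [IsNoetherianRing A] :
    ∃ (V : Subalgebra A (FractionRing A)) (_ : IsDomain V) (_ : IsDiscreteValuationRing V),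
      IsFractionRing V (FractionRing A) ∧
      (maximalIdeal V).comap (algebraMap A V) = maximalIdeal A ∧
      ∃ (φ : ResidueField A →+* ResidueField V),
        φ.comp (residue A) = (residue V).comp (algebraMap A V) ∧
        letI := φ.toAlgebra
        ∃ (ι : Type u) (t : ι → ResidueField V), AlgebraicIndependent (ResidueField A) t ∧
          IntermediateField.adjoin (ResidueField A) (Set.range t) = ⊤ := by
  classical
  let K := FractionRing A
  let k := ResidueField A
  let Q := MvPolynomial (Fin n) k
  let F := FractionRing Q
  let B := (chart a).range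
  let c := (chart a).rangeRestrict
  have hc : Function.Surjective c := AlgHom.rangeRestrict_surjective _
  let ψ : MvPolynomial (Fin n) A →+* Q := MvPolynomial.map (residue A)
  have hψ : Function.Surjective ψ := MvPolynomial.map_surjective _ residue_surjective
  have hker : RingHom.ker c.toRingHom ≤ RingHom.ker ψ := by
    have : RingHom.ker c.toRingHom = RingHom.ker (chart a) := by
      ext f
      exact Subtype.ext_iff
    rw [this, ker_chart a h0 ha, Ideal.span_le]
    rintro q ⟨i, rfl⟩
    have hz : ∀ j, residue A (a j) = 0 := fun j =>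
      (residue_eq_zero_iff _).mpr (hm ▸ Ideal.subset_span ⟨j, rfl⟩)
    show MvPolynomial.map (residue A) (MvPolynomial.C (a 0) * MvPolynomial.X i - MvPolynomial.C (a i.succ)) =
      (0 : MvPolynomial (Fin n) (ResidueField A))
    simp only [map_sub, map_mul, MvPolynomial.map_C, hz, map_zero, zero_mul, sub_zero]
  let g : B →+* Q := RingHom.liftOfSurjective c.toRingHom hc ⟨ψ, hker⟩
  have hg : ∀ f, g (c f) = ψ f := fun f =>
    RingHom.liftOfRightInverse_comp_apply c.toRingHom _ (Function.rightInverse_surjInv hc) ⟨ψ, hker⟩ f
  have hgs : Function.Surjective g := fun q => by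
    obtain ⟨f, rfl⟩ := hψ q
    exact ⟨c f, hg f⟩
  have hgA : ∀ r : A, g (algebraMap A B r) = MvPolynomial.C (residue A r) := fun r => by
    have : algebraMap A B r = c (MvPolynomial.C r) := (AlgHom.commutes c r).symm
    rw [this, hg, show ψ (MvPolynomial.C r) = _ from MvPolynomial.map_C _ r]
  let P : Ideal B := RingHom.ker g
  haveI : P.IsPrime := RingHom.ker_isPrime g
  have hP : P = Ideal.span {algebraMap A B (a 0)} := by
    refine le_antisymm ?_ ((Ideal.span_singleton_le_iff_mem _).mpr ?_)
    · intro b hb
      obtain ⟨f, rfl⟩ := hc b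
      have hf : f ∈ (maximalIdeal A).map (MvPolynomial.C (σ := Fin n)) := by
        rw [mem_map_C_iff]
        intro e
        rw [← residue_eq_zero_iff, ← coeff_map]
        rw [show MvPolynomial.map (residue A) f = 0 from (hg f).symm.trans hb, coeff_zero]
      rw [← hm, Ideal.map_span, ← Set.range_comp] at hf
      refine Submodule.span_induction ?_ ?_ ?_ ?_ hf
      · rintro x ⟨i, rfl⟩
        have hi : c (MvPolynomial.C (a i)) = algebraMap A B (a i) := AlgHom.commutes c (a i)
        show c (MvPolynomial.C (a i)) ∈ _
        rw [hi]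
        induction i using Fin.cases with
        | zero => exact Ideal.mem_span_singleton_self _
        | succ i =>
          refine Ideal.mem_span_singleton'.mpr ⟨c (MvPolynomial.X i), Subtype.ext ?_⟩
          show chart a (MvPolynomial.X i) * algebraMap A K (a 0) = algebraMap A K (a i.succ)
          rw [chart, aeval_X,
            div_mul_cancel₀ _ ((map_ne_zero_iff _ (IsFractionRing.injective A K)).mpr h0)]
      · rw [map_zero]; exact zero_mem _
      · intro x y _ _ hx hy; rw [map_add]; exact add_mem hx hy
      · intro r x _ hx; rw [smul_eq_mul, map_mul]; exact Ideal.mul_mem_left _ _ hx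
    · show g _ = 0
      rw [hgA, (residue_eq_zero_iff _).mpr (hm ▸ Ideal.subset_span ⟨0, rfl⟩), map_zero]
  haveI : IsNoetherianRing B := isNoetherianRing_of_surjective _ _ c.toRingHom hc
  -- the localisation
  let L := Localization.AtPrime P
  have hP0 : ∀ s : P.primeCompl, IsUnit ((B.val : B →+* K) s) := fun s => by
    refine isUnit_iff_ne_zero.mpr fun h => s.2 ?_
    rw [show (s : B) = 0 from Subtype.ext h]
    exact zero_mem _
  let ι : L →+* K := IsLocalization.lift (S := L) hP0
  have hι : Function.Injective ι := by
    rw [IsLocalization.lift_injective_iff]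
    intro x y
    constructor
    · intro h; rw [IsLocalization.injective L (P.primeCompl_le_nonZeroDivisors) h]
    · intro h; rw [show x = y from Subtype.ext h]
  have hιc : ∀ r : A, ι (algebraMap A L r) = algebraMap A K r := fun r => by
    rw [IsScalarTower.algebraMap_apply A B L, IsLocalization.lift_eq]
    rfl
  let ιA : L →ₐ[A] K := { ι with commutes' := hιc }
  let V := ιA.range
  let e0 : L ≃ₐ[A] V := AlgEquiv.ofInjective ιA hι
  haveI : IsDomain L := IsLocalization.isDomain_localization P.primeCompl_le_nonZeroDivisors
  haveI : IsNoetherianRing L := IsLocalization.isNoetherianRing P.primeCompl L inferInstance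
  have hmax : maximalIdeal L = Ideal.span {algebraMap A L (a 0)} := by
    rw [← IsLocalization.AtPrime.map_eq_maximalIdeal P L]
    refine (congrArg (Ideal.map (algebraMap B L)) hP).trans ?_
    rw [Ideal.map_span, Set.image_singleton, ← IsScalarTower.algebraMap_apply A B L]
  have hnf : ¬ IsField L := by
    rw [isField_iff_maximalIdeal_eq, hmax, Ideal.span_singleton_eq_bot]
    intro h
    have := congrArg ιA h
    rw [AlgHom.commutes, map_zero] at this
    exact (map_ne_zero_iff _ (IsFractionRing.injective A K)).mpr h0 this
  have hprin : (maximalIdeal L).IsPrincipal := ⟨⟨_, hmax⟩⟩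
  haveI : IsDiscreteValuationRing L := by
    have h := (IsDiscreteValuationRing.TFAE L hnf).out 0 4
    exact h.mpr hprin
  haveI hV : IsDiscreteValuationRing V := IsDiscreteValuationRing.RingEquivClass.isDiscreteValuationRing e0
  have hfr : IsFractionRing V K := by
    haveI : FaithfulSMul V K := (faithfulSMul_iff_algebraMap_injective V K).mpr Subtype.val_injective
    refine IsFractionRing.of_field V K fun z => ?_
    obtain ⟨x, y, -, rfl⟩ := IsFractionRing.div_surjective (A := A) z
    exact ⟨algebraMap A V x, algebraMap A V y, rfl⟩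
  -- the residue field
  have hun : ∀ s : P.primeCompl, IsUnit (((algebraMap Q F).comp g) s) := fun s => by
    refine isUnit_iff_ne_zero.mpr ((map_ne_zero_iff _ (IsFractionRing.injective Q F)).mpr ?_)
    exact s.2
  let G : L →+* F := IsLocalization.lift (S := L) hun
  have hG : Function.Surjective G := fun z => by
    obtain ⟨p, q, hq, rfl⟩ := IsFractionRing.div_surjective (A := Q) z
    obtain ⟨x, rfl⟩ := hgs p
    obtain ⟨y, rfl⟩ := hgs q
    have hy : y ∈ P.primeCompl := nonZeroDivisors.ne_zero hq
    refine ⟨IsLocalization.mk' L x ⟨y, hy⟩, ?_⟩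
    rw [eq_div_iff ((map_ne_zero_iff _ (IsFractionRing.injective Q F)).mpr (nonZeroDivisors.ne_zero hq))]
    have := congrArg G (IsLocalization.mk'_spec L x ⟨y, hy⟩)
    rw [map_mul, IsLocalization.lift_eq, IsLocalization.lift_eq] at this
    exact this
  let G' : V →+* F := G.comp e0.symm.toRingEquiv.toRingHom
  have hG' : Function.Surjective G' := hG.comp e0.symm.surjective
  have hG'A : ∀ r : A, G' (algebraMap A V r) = algebraMap Q F (MvPolynomial.C (residue A r)) := fun r => by
    show G (e0.symm (algebraMap A V r)) = _
    rw [AlgEquiv.commutes, IsScalarTower.algebraMap_apply A B L, IsLocalization.lift_eq,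
      RingHom.comp_apply, hgA]
  have hkerG : RingHom.ker G' = maximalIdeal V :=
    IsLocalRing.eq_maximalIdeal (RingHom.ker_isMaximal_of_surjective G' hG')
  let e : ResidueField V ≃+* F :=
    (Ideal.quotEquivOfEq hkerG.symm).trans (RingHom.quotientKerEquivOfSurjective hG')
  have he : ∀ v : V, e (residue V v) = G' v := fun v => rfl
  let φ : k →+* ResidueField V := e.symm.toRingHom.comp ((algebraMap Q F).comp MvPolynomial.C)
  have hφ : φ.comp (residue A) = (residue V).comp (algebraMap A V) := by
    ext r
    show e.symm (algebraMap Q F (MvPolynomial.C (residue A r))) = residue V (algebraMap A V r)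
    rw [← hG'A, ← he, RingEquiv.symm_apply_apply]
  refine ⟨V, inferInstance, hV, hfr, ?_, φ, hφ, ?_⟩
  · ext r
    rw [Ideal.mem_comap, ← residue_eq_zero_iff, ← residue_eq_zero_iff,
      show residue V (algebraMap A V r) = φ (residue A r) from (RingHom.congr_fun hφ r).symm]
    exact map_eq_zero φ
  letI := φ.toAlgebra
  let s : Fin n → ResidueField V := fun i => e.symm (algebraMap Q F (MvPolynomial.X i))
  have hs : ∀ p : Q, aeval (R := k) s p = e.symm (algebraMap Q F p) := fun p => by
    refine RingHom.congr_fun (?_ : (aeval (R := k) s).toRingHom =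
      e.symm.toRingHom.comp (algebraMap Q F)) p
    refine MvPolynomial.ringHom_ext (fun r => ?_) (fun i => ?_)
    · simp only [AlgHom.toRingHom_eq_coe, RingHom.coe_coe, aeval_C]
      rfl
    · simp only [AlgHom.toRingHom_eq_coe, RingHom.coe_coe, aeval_X]
      rfl
  refine ⟨ULift.{u} (Fin n), s ∘ ULift.down, ?_, ?_⟩
  · refine AlgebraicIndependent.comp ?_ _ ULift.down_injective
    rw [algebraicIndependent_iff_injective_aeval]
    intro p q h
    rw [hs, hs] at h
    exact IsFractionRing.injective Q F (e.symm.injective h)
  · rw [Set.range_comp, ULift.down_surjective.range_eq, Set.image_univ, eq_top_iff]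
    intro z _
    obtain ⟨p, q, -, hpq⟩ := IsFractionRing.div_surjective (A := Q) (e z)
    have hz : z = aeval (R := k) s p / aeval (R := k) s q := by
      rw [hs, hs, ← map_div₀, hpq, RingEquiv.symm_apply_apply]
    have hmem : ∀ p : Q, aeval (R := k) s p ∈ IntermediateField.adjoin k (Set.range s) := fun p =>
      IntermediateField.algebra_adjoin_le_adjoin k _ (by
        rw [Algebra.adjoin_range_eq_range_aeval]; exact ⟨p, rfl⟩)
    rw [hz]
    exact div_mem (hmem p) (hmem q)

end Groth.Agent.DomDVR
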